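import Mathlib.Analysis.SpecialFunctions.Complex.CircleAddChar
import Mathlib.NumberTheory.LegendreSymbol.AddCharacter
import Mathlib.Algebra.Field.ZMod

/-!
# An averaged multiplicativity equation on `ZMod p`
-/

namespace H8.PF

open scoped BigOperators

variable {p : ℕ} [Fact p.Prime]

/-- If `f i * f j` is the average of `f (i + n * j)` over a subset `H` of units missing `-1`, for
nonzero `i`, `j`, then `f 0 = 1` or `f` vanishes off zero. -/
theorem avg_dichotomy (H : Finset (ZMod p)) (h1 : (1 : ZMod p) ∈ H) (hneg : (-1 : ZMod p) ∉ H)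
    (f : ZMod p → ℂ) (hinv : ∀ n ∈ H, ∀ k, f (n * k) = f k)
    (heq : ∀ i, i ≠ 0 → ∀ j, j ≠ 0 → f i * f j = (∑ n ∈ H, f (i + n * j)) / (H.card : ℂ)) :
    f 0 = 1 ∨ ∀ j, j ≠ 0 → f j = 0 := by
  classical
  have : NeZero p := ⟨(Fact.out : p.Prime).ne_zero⟩
  set ψ : AddChar (ZMod p) ℂ := ZMod.stdAddChar with hψ
  have hprim : ψ.IsPrimitive := ZMod.isPrimitive_stdAddChar p
  have he : (H.card : ℂ) ≠ 0 := by
    simp only [ne_eq, Nat.cast_eq_zero, Finset.card_eq_zero]
    exact Finset.ne_empty_of_mem h1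
  set F : ZMod p → ℂ := fun t => ∑ k, f k * ψ (t * k) with hF
  set Φ : ZMod p → ZMod p → ℂ := fun t j => (∑ n ∈ H, ψ (-(t * (n * j)))) / (H.card : ℂ) with hΦ
  have hsum : ∀ b : ZMod p, ∑ x : ZMod p, ψ (x * b) = if b = 0 then (p : ℂ) else 0 := by
    intro b
    rw [AddChar.sum_mulShift b hprim, ZMod.card]
    split_ifs <;> simp
  have hkey : ∀ t j, j ≠ 0 → f j * (F t + (1 - f 0)) = F t * Φ t j := by
    intro t j hj
    have hL : f j * (F t - f 0) = ∑ i ∈ Finset.univ.erase (0 : ZMod p), f i * f j * ψ (t * i) := by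
      rw [hF]
      simp only
      rw [← Finset.add_sum_erase _ _ (Finset.mem_univ (0 : ZMod p)), mul_zero,
        AddChar.map_zero_eq_one, mul_one, add_sub_cancel_left, Finset.mul_sum]
      exact Finset.sum_congr rfl fun i _ => by ring
    have hR : ∑ i ∈ Finset.univ.erase (0 : ZMod p), f i * f j * ψ (t * i) =
        F t * Φ t j - f j := by
      calc ∑ i ∈ Finset.univ.erase (0 : ZMod p), f i * f j * ψ (t * i)
          = ∑ i ∈ Finset.univ.erase (0 : ZMod p),
              (∑ n ∈ H, f (i + n * j) * ψ (t * i)) / (H.card : ℂ) :=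
            Finset.sum_congr rfl fun i hi => by
              rw [heq i (Finset.ne_of_mem_erase hi) j hj, Finset.sum_div, Finset.sum_mul,
                Finset.sum_div]
              exact Finset.sum_congr rfl fun n _ => by ring
        _ = (∑ n ∈ H, ((∑ i : ZMod p, f (i + n * j) * ψ (t * i)) - f j)) / (H.card : ℂ) := by
            rw [← Finset.sum_div, Finset.sum_comm]
            congr 1
            refine Finset.sum_congr rfl fun n hn => ?_
            rw [Finset.sum_erase_eq_sub (Finset.mem_univ _), mul_zero, AddChar.map_zero_eq_one,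
              mul_one, zero_add, hinv n hn j]
        _ = F t * Φ t j - f j := by
            rw [Finset.sum_sub_distrib, sub_div, Finset.sum_const, nsmul_eq_mul,
              mul_div_cancel_left₀ _ he, hΦ]
            simp only
            rw [← mul_div_assoc, Finset.mul_sum]
            congr 2
            refine Finset.sum_congr rfl fun n _ => ?_
            rw [hF]
            simp only
            rw [Finset.sum_mul]
            refine Fintype.sum_equiv (Equiv.addRight (n * j)) _ _ fun i => ?_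
            simp only [Equiv.coe_addRight]
            rw [mul_assoc, ← AddChar.map_add_eq_mul]
            ring_nf
    linear_combination hL + hR
  by_cases hc : f 0 = 1
  · exact Or.inl hc
  refine Or.inr ?_
  have hc' : (1 : ℂ) - f 0 ≠ 0 := sub_ne_zero.2 (Ne.symm hc)
  have h0 : ∀ j, Φ 0 j = 1 := fun j => by simp [hΦ, he]
  have hF0 : F 0 + (1 - f 0) ≠ 0 := by
    intro h
    have h2 := hkey 0 1 one_ne_zero
    rw [h, mul_zero, h0, mul_one] at h2
    rw [← h2, zero_add] at h
    exact hc' h
  have hC : ∀ j, j ≠ 0 → f j = F 0 / (F 0 + (1 - f 0)) := fun j hj => by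
    rw [eq_div_iff hF0, hkey 0 j hj, h0, mul_one]
  by_contra hne
  push Not at hne
  obtain ⟨j₀, hj₀, hfj⟩ := hne
  have hF1 : F 1 ≠ 0 := by
    intro h
    have h2 := hkey 1 j₀ hj₀
    rw [h, zero_mul, zero_add] at h2
    exact (mul_eq_zero.1 h2).elim hfj hc'
  set γ : ℂ := f j₀ * (F 1 + (1 - f 0)) / F 1 with hγ
  have hΦ1 : ∀ j, j ≠ 0 → Φ 1 j = γ := fun j hj => by
    rw [hγ, eq_div_iff hF1, mul_comm, ← hkey 1 j hj, hC j hj, hC j₀ hj₀]
  have hT : ∀ m : ZMod p, ∑ j, ψ (m * j) * Φ 1 j = (if m ∈ H then (p : ℂ) else 0) / (H.card : ℂ) := by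
    intro m
    calc ∑ j, ψ (m * j) * Φ 1 j
        = (∑ n ∈ H, ∑ j, ψ (j * (m - n))) / (H.card : ℂ) := by
          rw [Finset.sum_comm, Finset.sum_div]
          refine Finset.sum_congr rfl fun j _ => ?_
          rw [hΦ]
          simp only
          rw [← mul_div_assoc, Finset.mul_sum]
          congr 1
          refine Finset.sum_congr rfl fun n _ => ?_
          rw [← AddChar.map_add_eq_mul]
          ring_nf
      _ = (if m ∈ H then (p : ℂ) else 0) / (H.card : ℂ) := by
          simp only [hsum, sub_eq_zero]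
          rw [Finset.sum_ite_eq]
  have hT' : ∀ m : ZMod p, m ≠ 0 → ∑ j, ψ (m * j) * Φ 1 j = 1 - γ := by
    intro m hm
    rw [← Finset.add_sum_erase _ _ (Finset.mem_univ (0 : ZMod p)), mul_zero,
      AddChar.map_zero_eq_one, one_mul]
    rw [show Φ 1 0 = 1 by simp [hΦ, he]]
    rw [Finset.sum_congr rfl fun j hj => by rw [hΦ1 j (Finset.ne_of_mem_erase hj)],
      ← Finset.sum_mul, Finset.sum_erase_eq_sub (Finset.mem_univ _)]
    have h2 := hsum m
    rw [if_neg hm, Finset.sum_congr rfl fun x _ => by rw [mul_comm x m]] at h2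
    rw [h2, mul_zero, AddChar.map_zero_eq_one]
    ring
  have h3 := hT 1
  have h4 := hT (-1)
  rw [if_pos h1, hT' 1 one_ne_zero] at h3
  rw [if_neg hneg, zero_div, hT' (-1) (neg_ne_zero.2 one_ne_zero)] at h4
  rw [h4, eq_comm, div_eq_zero_iff, Nat.cast_eq_zero] at h3
  exact h3.elim (Fact.out : p.Prime).ne_zero he

end H8.PF
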