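import Cfsg.Agent.H8.PairFrob.Transfer
import Cfsg.Agent.H8.PairFrob.Fourier
import Cfsg.Agent.H18.CentralChar
import Cfsg.Agent.H13.Linear
import Cfsg.Agent.H12.Transport

/-!
# Pairs with abelian kernels: class sums force a Frobenius group
-/

namespace H8.PF

open Subgroup Cfsg
open scoped ComplexConjugate

theorem pow_val_add {G : Type*} [Group G] {p : ℕ} [NeZero p] {x : G} (hx : x ^ p = 1)
    (i j : ZMod p) : x ^ (i + j).val = x ^ i.val * x ^ j.val := by
  rw [← pow_add, ZMod.val_add, ← pow_eq_pow_mod _ hx]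

theorem pow_val_mul {G : Type*} [Group G] {p : ℕ} [NeZero p] {x : G} (hx : x ^ p = 1)
    (i j : ZMod p) : x ^ (i * j).val = (x ^ i.val) ^ j.val := by
  rw [← pow_mul, ZMod.val_mul, ← pow_eq_pow_mod _ hx]

theorem pow_val_natCast {G : Type*} [Group G] {p : ℕ} [NeZero p] {x : G} (hx : x ^ p = 1)
    (i : ℕ) : x ^ (i : ZMod p).val = x ^ i := by
  rw [ZMod.val_natCast, ← pow_eq_pow_mod _ hx]

theorem re_eq_of_norm_le {ι : Type*} [Fintype ι] (z : ι → ℂ) {d : ℝ} (hle : ∀ i, ‖z i‖ ≤ d)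
    (hsum : ∑ i, z i = (Fintype.card ι : ℂ) * (d : ℂ)) (i : ι) : z i = (d : ℂ) := by
  have h1 : ∑ j, (z j).re = ∑ _j : ι, d := by
    rw [← Complex.re_sum, hsum]
    simp
  have h2 := (Finset.sum_eq_sum_iff_of_le
    (fun j _ => (Complex.re_le_norm (z j)).trans (hle j))).1 h1 i (Finset.mem_univ i)
  have h3 : (z i).re ^ 2 + (z i).im ^ 2 ≤ d ^ 2 := by
    have h4 : ‖z i‖ ^ 2 ≤ d ^ 2 := pow_le_pow_left₀ (norm_nonneg _) (hle i) 2
    rw [Complex.sq_norm, Complex.normSq_apply] at h4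
    nlinarith
  rw [h2] at h3
  have h5 : (z i).im = 0 := by nlinarith [sq_nonneg (z i).im]
  exact Complex.ext (by simp [h2]) (by simp [h5])

universe u

variable {G : Type u} [Group G] {p q : ℕ} {D : Set (Subgroup G)}

namespace Pre

variable (S : Pre p q D)
include S

section Geometry

variable [Finite G] (hab : ∀ A ∈ D, ∀ B ∈ D, A ≠ B → ∀ K : Subgroup G, IsKer q A B K →
  ∀ x ∈ K, ∀ y ∈ K, x * y = y * x)
variable {A : Subgroup G} (hA : A ∈ D)

include hab hA

/-- An abelian kernel consists of commutators with a generator of `A`. -/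
theorem ker_surj {B K : Subgroup G} (hB : B ∈ D) (hAB : A ≠ B) (hK : IsKer q A B K) {a : G}
    (ha : a ∈ A) (ha1 : a ≠ 1) {k : G} (hk : k ∈ K) : ∃ y ∈ K, a * y * a⁻¹ * y⁻¹ = k := by
  have hc := hab A hA B hB hAB K hK
  let L : Subgroup G :=
    { carrier := {z | ∃ y ∈ K, a * y * a⁻¹ * y⁻¹ = z}
      one_mem' := ⟨1, K.one_mem, by simp⟩
      mul_mem' := by
        rintro _ _ ⟨y, hy, rfl⟩ ⟨w, hw, rfl⟩
        refine ⟨y * w, K.mul_mem hy hw, ?_⟩
        have h1 := hc y⁻¹ (K.inv_mem hy) (a * w * a⁻¹ * w⁻¹)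
          (K.mul_mem (hK.norm a ha w hw) (K.inv_mem hw))
        calc a * (y * w) * a⁻¹ * (y * w)⁻¹ = a * y * a⁻¹ * (a * w * a⁻¹ * w⁻¹ * y⁻¹) := by group
          _ = a * y * a⁻¹ * (y⁻¹ * (a * w * a⁻¹ * w⁻¹)) := by rw [h1]
          _ = _ := by group
      inv_mem' := by
        rintro _ ⟨y, hy, rfl⟩
        refine ⟨y⁻¹, K.inv_mem hy, ?_⟩
        have h1 := hc (a * y⁻¹ * a⁻¹) (hK.norm a ha _ (K.inv_mem hy)) y hy
        simpa [mul_assoc] using h1 }
  have hL : IsKer q A L L := by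
    refine ⟨hK.isp.to_le ?_, ?_, rfl⟩
    · rintro _ ⟨y, hy, rfl⟩
      exact K.mul_mem (hK.norm a ha y hy) (K.inv_mem hy)
    · rintro x hx _ ⟨y, hy, rfl⟩
      refine ⟨x * y * x⁻¹, hK.norm x hx y hy, ?_⟩
      obtain ⟨i, rfl⟩ := S.exists_pow hA ha ha1 hx
      group
  obtain ⟨k₀, hk₀, rfl⟩ := S.ker_conj_member hA hK hB (hK.sup_eq ▸ le_sup_right)
  have hle : A ⊔ cnj k₀ A ≤ A ⊔ L := by
    refine sup_le le_sup_left fun x hx => ?_
    rw [mem_cnj] at hx
    obtain ⟨i, hi⟩ := S.exists_pow hA ha ha1 hx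
    have h2 : x = (k₀ * a * k₀⁻¹) ^ i := by rw [conj_pow, hi]; group
    rw [h2]
    refine pow_mem ?_ i
    have h3 : k₀ * a * k₀⁻¹ = (a * k₀ * a⁻¹ * k₀⁻¹)⁻¹ * a := by group
    rw [h3]
    exact mul_mem (inv_mem (Subgroup.mem_sup_right (show _ ∈ L from ⟨k₀, hk₀, rfl⟩)))
      (Subgroup.mem_sup_left ha)
  rw [hK.sup_eq] at hle
  exact S.ker_qel_mem hA hL (hle (Subgroup.mem_sup_right hk)) (qel_of_mem hK.isp hk)

/-- An element congruent to a generator is conjugate to it. -/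
theorem conj_mod {B K : Subgroup G} (hB : B ∈ D) (hAB : A ≠ B) (hK : IsKer q A B K) {a : G}
    (ha : a ∈ A) (ha1 : a ≠ 1) {k : G} (hk : k ∈ K) : IsConj a (k * a) := by
  obtain ⟨y, -, hy⟩ := S.ker_surj hab hA hB hAB hK ha ha1 (K.inv_mem hk)
  refine isConj_iff.2 ⟨y, ?_⟩
  rw [← inv_inv k, ← hy]
  group

theorem prod_conj {a : G} (ha : a ∈ A) {B : Subgroup G} (hB : B ∈ D) {b : G}
    (hb : b ∈ B) (hq : QEl q (b * a⁻¹)) (i l : ℕ) (h : a ^ (i + l) ≠ 1) :
    IsConj (a ^ (i + l)) (a ^ i * b ^ l) := by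
  by_cases hAB : A = B
  · subst hAB
    rw [mul_inv_eq_one.1 (S.eq_one_of_qel hA (A.mul_mem hb (A.inv_mem ha)) hq), ← pow_add]
  obtain ⟨K, hK⟩ := S.pair A hA B hB hAB
  have hmem : b * a⁻¹ ∈ K := S.ker_qel_mem hA hK (mul_mem
    (by rw [← hK.sup_eq]; exact Subgroup.mem_sup_right hb) (inv_mem (Subgroup.mem_sup_left ha))) hq
  obtain ⟨k', hk', h2⟩ := S.ker_pow hK hmem ha l
  rw [inv_mul_cancel_right] at h2
  rw [h2, ← mul_assoc, show a ^ i * k' * a ^ l = a ^ i * k' * (a ^ i)⁻¹ * a ^ (i + l) by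
    rw [pow_add]; group]
  exact S.conj_mod hab hA hB hAB hK (A.pow_mem ha _) h (hK.norm _ (A.pow_mem ha i) _ hk')

theorem exists_swap {a : G} (ha : a ∈ A) (ha1 : a ≠ 1) {B : Subgroup G} (hB : B ∈ D) {b : G}
    (hb : b ∈ B) (hq : QEl q (b * a⁻¹)) (i : ℕ) :
    ∃ B' ∈ D, ∃ b' ∈ B', QEl q (b' * a⁻¹) ∧ a * b'⁻¹ = a ^ i * (b ^ i)⁻¹ := by
  by_cases hAB : A = B
  · subst hAB
    refine ⟨A, hA, a, ha, ⟨0, by simp⟩, ?_⟩
    rw [mul_inv_eq_one.1 (S.eq_one_of_qel hA (A.mul_mem hb (A.inv_mem ha)) hq)]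
    simp
  obtain ⟨K, hK⟩ := S.pair A hA B hB hAB
  have hmem : b * a⁻¹ ∈ K := S.ker_qel_mem hA hK (mul_mem
    (by rw [← hK.sup_eq]; exact Subgroup.mem_sup_right hb) (inv_mem (Subgroup.mem_sup_left ha))) hq
  obtain ⟨k', hk', h2⟩ := S.ker_pow hK hmem ha i
  rw [inv_mul_cancel_right] at h2
  obtain ⟨y, hy, hy2⟩ := S.ker_surj hab hA hB hAB hK ha ha1 (K.inv_mem hk')
  refine ⟨cnj y A, S.inv A hA y, y * a * y⁻¹, conj_mem_cnj ha, ?_, ?_⟩
  · refine qel_of_mem hK.isp ?_
    have := K.inv_mem (K.mul_mem (hK.norm a ha y hy) (K.inv_mem hy))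
    simpa [mul_assoc] using this
  · rw [h2, show a ^ i * (k' * a ^ i)⁻¹ = k'⁻¹ by group, ← hy2]
    group

end Geometry

/-- **Abelian kernels.** -/
theorem abelian_case [Finite G] (htop : sSup D = ⊤)
    (hab : ∀ A ∈ D, ∀ B ∈ D, A ≠ B → ∀ K : Subgroup G, IsKer q A B K →
      ∀ x ∈ K, ∀ y ∈ K, x * y = y * x)
    (hinv : ∀ A ∈ D, ∀ a ∈ A, a ≠ 1 → ∀ g : G, g * a * g⁻¹ ≠ a⁻¹)
    {A : Subgroup G} (hA : A ∈ D) :
    ∃ M : Subgroup G, M.Normal ∧ IsPGroup q M ∧ M ⊔ A = ⊤ ∧
      ∀ x ∈ M, (∀ a ∈ A, x * a = a * x) → x = 1 := by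
  classical
  cases nonempty_fintype G
  have : Fact p.Prime := ⟨S.hp⟩
  have : NeZero p := ⟨S.hp.ne_zero⟩
  obtain ⟨a, ha, ha1⟩ := S.exists_ne_one hA
  have hap : a ^ p = 1 := S.pow_p hA ha
  have hne0 : ∀ n : ZMod p, n ≠ 0 → a ^ n.val ≠ 1 := by
    intro n hn h
    have h2 := orderOf_dvd_of_pow_eq_one h
    rw [S.orderOf_mem hA ha ha1] at h2
    have h3 := ZMod.val_lt n
    have h4 := Nat.eq_zero_of_dvd_of_lt h2 h3
    exact hn ((ZMod.val_eq_zero n).1 h4)
  have := Fintype.ofFinite (↥D : Type u)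
  choose β hβmem hβq hβ1 hβu using fun B : ↥D => S.exists_canon hA B.2 ha
  have hβp : ∀ B : ↥D, β B ^ p = 1 := fun B => S.pow_p B.2 (hβmem B)
  -- conjugates of `a`
  set H : Finset (ZMod p) := Finset.univ.filter fun n => IsConj a (a ^ n.val) with hH
  have hHmem : ∀ n, n ∈ H ↔ IsConj a (a ^ n.val) := fun n => by simp [hH]
  have h1H : (1 : ZMod p) ∈ H := by
    rw [hHmem, ZMod.val_one, pow_one]
  have hnegH : (-1 : ZMod p) ∉ H := by
    rw [hHmem]
    intro h
    obtain ⟨g, hg⟩ := isConj_iff.1 h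
    refine hinv A hA a ha ha1 g ?_
    rw [hg]
    apply eq_inv_of_mul_eq_one_left
    nth_rewrite 2 [show a = a ^ (1 : ZMod p).val by rw [ZMod.val_one, pow_one]]
    rw [← pow_val_add hap, neg_add_cancel, ZMod.val_zero, pow_zero]
  have hpowconj : ∀ (x y : G) (k : ℕ), IsConj x y → IsConj (x ^ k) (y ^ k) := by
    intro x y k h
    obtain ⟨g, hg⟩ := isConj_iff.1 h
    exact isConj_iff.2 ⟨g, by rw [← conj_pow, hg]⟩
  have hHconj : ∀ n ∈ H, ∀ k : ZMod p, IsConj (a ^ k.val) (a ^ (n * k).val) := by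
    intro n hn k
    rw [pow_val_mul hap]
    exact hpowconj _ _ _ ((hHmem n).1 hn)
  have hn0 : ∀ n ∈ H, n ≠ 0 := by
    intro n hn h
    have h2 := (hHmem n).1 hn
    rw [h, ZMod.val_zero, pow_zero] at h2
    exact ha1 (isConj_one_left.1 h2)
  have hβconj : ∀ B : ↥D, ∀ n ∈ H, IsConj a (β B ^ n.val) := by
    intro B n hn
    have h1 := S.prod_conj hab hA ha B.2 (hβmem B) (hβq B) 0 n.val (by
      rw [zero_add]; exact hne0 n (hn0 n hn))
    rw [zero_add, pow_zero, one_mul] at h1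
    exact ((hHmem n).1 hn).trans h1
  -- the class of `a`, parametrised
  let Cl : Finset G := Finset.univ.filter fun x => IsConj a x
  have hClsum : ∀ F : G → ℂ, ∑ x ∈ Cl, F x = ∑ B : ↥D, ∑ n ∈ H, F (β B ^ n.val) := by
    intro F
    rw [← Finset.sum_product']
    refine (Finset.sum_bij (fun x _ => β x.1 ^ x.2.val) ?_ ?_ ?_ fun _ _ => rfl).symm
    · intro x hx
      simp only [Finset.mem_product] at hx
      simp only [Cl, Finset.mem_filter, Finset.mem_univ, true_and]
      exact hβconj x.1 x.2 hx.2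
    · intro x hx y hy hxy
      simp only [Finset.mem_product] at hx hy
      have hx1 : β x.1 ^ x.2.val ≠ 1 := fun h =>
        ha1 (isConj_one_left.1 (h ▸ hβconj x.1 x.2 hx.2))
      have hBB : x.1 = y.1 := Subtype.ext (S.eq_of_mem x.1.2 y.1.2 (pow_mem (hβmem _) _)
        (hxy ▸ pow_mem (hβmem _) _) hx1)
      have h3 := hxy
      rw [← hBB] at h3
      rw [pow_eq_pow_iff_modEq, S.orderOf_mem x.1.2 (hβmem _) (hβ1 _ ha1),
        ← ZMod.natCast_eq_natCast_iff, ZMod.natCast_zmod_val, ZMod.natCast_zmod_val] at h3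
      exact Prod.ext hBB h3
    · intro x hx
      simp only [Cl, Finset.mem_filter, Finset.mem_univ, true_and] at hx
      obtain ⟨g, rfl⟩ := isConj_iff.1 hx
      let B : ↥D := ⟨cnj g A, S.inv A hA g⟩
      obtain ⟨i, hi⟩ := S.exists_pow B.2 (hβmem B) (hβ1 B ha1) (conj_mem_cnj (g := g) ha)
      have hi2 : β B ^ (i : ZMod p).val = g * a * g⁻¹ := by
        rw [pow_val_natCast (hβp B), hi]
      refine ⟨(B, (i : ZMod p)), ?_, hi2⟩
      simp only [Finset.mem_product, Finset.mem_univ, true_and, hHmem]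
      have hne : (i : ZMod p) ≠ 0 := by
        intro h
        rw [h, ZMod.val_zero, pow_zero] at hi2
        exact ha1 (conj_eq_one_iff.1 hi2.symm)
      have h1 := S.prod_conj hab hA ha B.2 (hβmem B) (hβq B) 0 (i : ZMod p).val (by
        rw [zero_add]; exact hne0 _ hne)
      rw [zero_add, pow_zero, one_mul, hi2] at h1
      exact hx.trans h1.symm
  set N0 : ℕ := Nat.card (Subgroup.centralizer ({a} : Set G)) with hN0
  have hGsum : ∀ F : G → ℂ, ∑ g : G, F (g * a * g⁻¹) = (N0 : ℂ) * ∑ x ∈ Cl, F x := by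
    intro F
    rw [← Finset.sum_fiberwise_of_maps_to (g := fun g : G => g * a * g⁻¹) (t := Cl) (fun g _ => by
      simp only [Cl, Finset.mem_filter, Finset.mem_univ, true_and]
      exact isConj_iff.2 ⟨g, rfl⟩), Finset.mul_sum]
    refine Finset.sum_congr rfl fun x hx => ?_
    simp only [Cl, Finset.mem_filter, Finset.mem_univ, true_and] at hx
    obtain ⟨c, hc⟩ := isConj_iff.1 hx
    rw [Finset.sum_congr rfl fun g hg => by rw [(Finset.mem_filter.1 hg).2], Finset.sum_const,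
      nsmul_eq_mul]
    congr 2
    rw [hN0, Nat.card_eq_fintype_card, Fintype.card_subtype]
    refine Finset.card_bij' (fun g _ => c⁻¹ * g) (fun g _ => c * g) ?_ ?_ ?_ ?_
    · intro g hg
      simp only [Finset.mem_filter, Finset.mem_univ, true_and] at hg ⊢
      rw [Subgroup.mem_centralizer_singleton_iff]
      have h2 : a = c⁻¹ * (g * a * g⁻¹) * c := by rw [hg, ← hc]; group
      conv_rhs => rw [h2]
      group
    · intro g hg
      simp only [Finset.mem_filter, Finset.mem_univ, true_and] at hg ⊢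
      rw [Subgroup.mem_centralizer_singleton_iff] at hg
      rw [← hc, show c * g * a * (c * g)⁻¹ = c * (g * a * g⁻¹) * c⁻¹ by group, hg,
        mul_inv_cancel_right]
    · intro g _; simp
    · intro g _; simp
  set v : ℕ := Fintype.card (↥D : Type u) with hv
  set e : ℕ := H.card with he
  have hcount : (Nat.card G : ℂ) = (N0 : ℂ) * ((v : ℂ) * (e : ℂ)) := by
    have h1 := hGsum (fun _ => 1)
    rw [hClsum] at h1
    simpa [hv, he, Nat.card_eq_fintype_card] using h1
  have hG0 : (Nat.card G : ℂ) ≠ 0 := by exact_mod_cast Nat.card_pos.ne'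
  have hve : (v : ℂ) ≠ 0 ∧ (e : ℂ) ≠ 0 := by
    constructor <;> intro h0 <;> apply hG0 <;> rw [hcount, h0] <;> ring
  -- dichotomy for every character
  have hdich : ∀ χ : IrrCharacter G, (χ : G → ℂ) a = 0 ∨
      ∀ B : ↥D, (χ : G → ℂ) (a * (β B)⁻¹) = (χ : G → ℂ) 1 := by
    intro χ
    set d := (χ : G → ℂ) 1 with hd
    have hd0 : d ≠ 0 := H12.irr_apply_one_ne_zero χ
    set M1 : ℂ := ∑ B : ↥D, (χ : G → ℂ) (a * (β B)⁻¹) with hM1
    set f : ZMod p → ℂ := fun k =>
      (if k = 0 then M1 else (v : ℂ) * (χ : G → ℂ) (a ^ k.val)) / ((v : ℂ) * d) with hf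
    have hinner : ∀ i : ZMod p, i ≠ 0 → ∀ l : ZMod p,
        ∑ B : ↥D, (χ : G → ℂ) (a ^ i.val * β B ^ l.val) =
          if i + l = 0 then M1 else (v : ℂ) * (χ : G → ℂ) (a ^ (i + l).val) := by
      intro i hi l
      split_ifs with hil
      · have hsw : ∀ B : ↥D, ∃ B' : ↥D, a * (β B')⁻¹ = a ^ i.val * (β B ^ i.val)⁻¹ := by
          intro B
          obtain ⟨B', hB', b', hb', hbq, hb2⟩ :=
            S.exists_swap hab hA ha ha1 B.2 (hβmem B) (hβq B) i.val
          exact ⟨⟨B', hB'⟩, by rw [← hβu ⟨B', hB'⟩ b' hb' hbq, hb2]⟩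
        choose σ hσ using hsw
        have hinj : Function.Injective σ := by
          intro B B' h
          have h2 := hσ B
          rw [h, hσ B', mul_left_cancel_iff, inv_inj] at h2
          have h3 : β B ^ i.val ≠ 1 := by
            intro h4
            have h5 := orderOf_dvd_of_pow_eq_one h4
            rw [S.orderOf_mem B.2 (hβmem B) (hβ1 B ha1)] at h5
            exact hi ((ZMod.val_eq_zero i).1 (Nat.eq_zero_of_dvd_of_lt h5 (ZMod.val_lt i)))
          exact Subtype.ext (S.eq_of_mem B.2 B'.2 (pow_mem (hβmem B) _)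
            (h2.symm ▸ pow_mem (hβmem B') _) h3)
        rw [hM1, ← (Equiv.ofBijective σ (Finite.injective_iff_bijective.1 hinj)).sum_comp
          (fun B => (χ : G → ℂ) (a * (β B)⁻¹))]
        refine Finset.sum_congr rfl fun B _ => ?_
        have hl2 : β B ^ l.val = (β B ^ i.val)⁻¹ := eq_inv_of_mul_eq_one_left (by
          rw [← pow_val_add (hβp B), add_comm, hil, ZMod.val_zero, pow_zero])
        rw [Equiv.ofBijective_apply, hσ, hl2]
      · rw [Finset.sum_congr rfl fun B _ => ?_, Finset.sum_const, Finset.card_univ, nsmul_eq_mul]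
        have h2 := S.prod_conj hab hA ha B.2 (hβmem B) (hβq B) i.val l.val (by
          rw [pow_add, ← pow_val_add hap]; exact hne0 _ hil)
        rw [pow_add, ← pow_val_add hap] at h2
        exact ((H12.isConj_iff_irr _ _).1 h2 χ).symm
    have heq : ∀ i, i ≠ 0 → ∀ j, j ≠ 0 →
        f i * f j = (∑ n ∈ H, f (i + n * j)) / (e : ℂ) := by
      intro i hi j hj
      have h1 := H18.sum_conj_mul_conj χ (a ^ i.val) (a ^ j.val)
      have h2 : ∀ g : G, ∑ h : G, (χ : G → ℂ) (g * a ^ i.val * g⁻¹ * (h * a ^ j.val * h⁻¹)) =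
          ∑ h : G, (χ : G → ℂ) (a ^ i.val * (h * a * h⁻¹) ^ j.val) := by
        intro g
        refine Fintype.sum_equiv (Equiv.mulLeft g⁻¹) _ _ fun h => ?_
        rw [Equiv.coe_mulLeft, conj_pow,
          ← H12.irr_isClassFunction χ (a ^ i.val * (g⁻¹ * h * a ^ j.val * (g⁻¹ * h)⁻¹)) g]
        congr 1
        group
      have h3 : ∑ h : G, (χ : G → ℂ) (a ^ i.val * (h * a * h⁻¹) ^ j.val) =
          (N0 : ℂ) * ∑ n ∈ H, (if i + n * j = 0 then M1 else
            (v : ℂ) * (χ : G → ℂ) (a ^ (i + n * j).val)) := by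
        rw [hGsum (fun x => (χ : G → ℂ) (a ^ i.val * x ^ j.val)), hClsum, Finset.sum_comm]
        congr 1
        refine Finset.sum_congr rfl fun n _ => ?_
        rw [← hinner i hi (n * j)]
        exact Finset.sum_congr rfl fun B _ => by rw [pow_val_mul (hβp B)]
      rw [Finset.sum_congr rfl fun g _ => h2 g, Finset.sum_const, Finset.card_univ, nsmul_eq_mul,
        ← Nat.card_eq_fintype_card, h3, hcount] at h1
      have hN : (N0 : ℂ) ≠ 0 := by exact_mod_cast Nat.card_pos.ne'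
      simp only [hf, if_neg hi, if_neg hj]
      rw [← Finset.sum_div]
      field_simp [hve.1, hve.2]
      have h4 : (v : ℂ) * (e : ℂ) * ((χ : G → ℂ) (a ^ i.val) * (χ : G → ℂ) (a ^ j.val)) =
          d * ∑ n ∈ H, (if i + n * j = 0 then M1 else
            (v : ℂ) * (χ : G → ℂ) (a ^ (i + n * j).val)) := by
        apply mul_left_cancel₀ (mul_ne_zero (mul_ne_zero (mul_ne_zero hN hve.1) hve.2) hN)
        linear_combination (-1 : ℂ) * h1
      linear_combination h4
    have hinvf : ∀ n ∈ H, ∀ k, f (n * k) = f k := by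
      intro n hn k
      by_cases hk : k = 0
      · rw [hk, mul_zero]
      simp only [hf, if_neg hk, if_neg (mul_ne_zero (hn0 n hn) hk)]
      rw [(H12.isConj_iff_irr _ _).1 (hHconj n hn k) χ]
    rcases avg_dichotomy H h1H hnegH f hinvf heq with h0 | h0
    · right
      simp only [hf, if_pos] at h0
      rw [div_eq_one_iff_eq (mul_ne_zero hve.1 hd0)] at h0
      obtain ⟨n, ρ, hρ, hχ⟩ := χ.2
      have hdn : d = ((n : ℝ) : ℂ) := by rw [hd, ← hχ]; simp
      intro B
      rw [hdn]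
      exact re_eq_of_norm_le (fun B : ↥D => (χ : G → ℂ) (a * (β B)⁻¹)) (fun B => by
        rw [← hχ]
        exact (H12.norm_character_le ρ _).trans_eq (by rw [Module.finrank_fin_fun])) (by
        rw [← hdn]; exact h0) B
    · left
      have h2 := h0 1 one_ne_zero
      simp only [hf, if_neg one_ne_zero, ZMod.val_one, pow_one, div_eq_zero_iff,
        mul_ne_zero hve.1 hd0, or_false, mul_eq_zero, hve.1, false_or] at h2
      exact h2
  have hgen : ∀ N : Subgroup G, a ∈ N → (∀ B : ↥D, a * (β B)⁻¹ ∈ N) → N = ⊤ := by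
    intro N haN hN
    rw [eq_top_iff, ← htop, sSup_le_iff]
    intro B hB
    rw [← S.zpowers_eq hB (hβmem ⟨B, hB⟩) (hβ1 ⟨B, hB⟩ ha1), Subgroup.zpowers_le]
    have h2 := N.mul_mem (N.inv_mem (hN ⟨B, hB⟩)) haN
    simpa using h2
  have hlin : ∀ χ : IrrCharacter G, (χ : G → ℂ) a = 0 ∨
      ((χ : G → ℂ) 1 = 1 ∧ ∀ B : ↥D, (χ : G → ℂ) (a * (β B)⁻¹) = 1) := by
    intro χ
    rcases hdich χ with h | h
    · exact Or.inl h
    refine Or.inr ?_
    obtain ⟨n, ρ, hρ, hχ⟩ := χ.2
    haveI := hρ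
    have hker : ∀ B : ↥D, ρ (a * (β B)⁻¹) = 1 := fun B =>
      (H12.character_eq_finrank_iff ρ _).1 (by rw [hχ, h B, ← hχ]; simp)
    let N : Subgroup G :=
      { carrier := {x | ρ x * ρ a = ρ a * ρ x}
        one_mem' := by simp
        mul_mem' := by
          intro x y hx hy
          simp only [Set.mem_ofPred_eq] at hx hy ⊢
          rw [map_mul, mul_assoc, hy, ← mul_assoc, hx, mul_assoc]
        inv_mem' := by
          intro x hx
          simp only [Set.mem_ofPred_eq] at hx ⊢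
          calc ρ x⁻¹ * ρ a = ρ x⁻¹ * (ρ a * ρ x) * ρ x⁻¹ := by
                rw [mul_assoc, mul_assoc (ρ a), ← map_mul ρ x, mul_inv_cancel, map_one, mul_one]
            _ = ρ x⁻¹ * (ρ x * ρ a) * ρ x⁻¹ := by rw [hx]
            _ = ρ a * ρ x⁻¹ := by rw [← mul_assoc, ← map_mul, inv_mul_cancel, map_one, one_mul] }
    have hN : N = ⊤ := hgen N (show ρ a * ρ a = ρ a * ρ a from rfl) fun B => by
      show ρ (a * (β B)⁻¹) * ρ a = ρ a * ρ (a * (β B)⁻¹)
      rw [hker B, one_mul, mul_one]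
    have hcomm : ∀ g : G, ρ g * ρ a = ρ a * ρ g := fun g => by
      have hg : g ∈ N := by rw [hN]; trivial
      exact hg
    obtain ⟨c, hc⟩ := H12.exists_scalar_of_commute ρ (ρ a) fun g => (hcomm g).symm
    have hd0 := H12.irr_apply_one_ne_zero χ
    have hcp : c ^ p = 1 := by
      have h2 : ρ (a ^ p) = c ^ p • (1 : Module.End ℂ (Fin n → ℂ)) := by
        rw [map_pow, hc, smul_pow, one_pow]
      rw [hap] at h2
      have h3 := congrArg (LinearMap.trace ℂ (Fin n → ℂ)) h2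
      rw [map_smul, map_one ρ, LinearMap.trace_one, Module.finrank_fin_fun, smul_eq_mul] at h3
      have hn : (n : ℂ) ≠ 0 := by
        intro h4
        apply hd0
        rw [← hχ, Representation.char_one, Module.finrank_fin_fun, h4]
      exact (mul_eq_right₀ hn).1 h3.symm
    let N' : Subgroup G :=
      { carrier := {x | ∃ z : ℂ, ‖z‖ = 1 ∧ ρ x = z • (1 : Module.End ℂ (Fin n → ℂ))}
        one_mem' := ⟨1, norm_one, by rw [map_one, one_smul]⟩
        mul_mem' := by
          rintro x y ⟨z, hz, hx⟩ ⟨w, hw, hy⟩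
          exact ⟨z * w, by rw [norm_mul, hz, hw, mul_one],
            by rw [map_mul, hx, hy, smul_mul_smul_comm, mul_one]⟩
        inv_mem' := by
          rintro x ⟨z, hz, hx⟩
          have hz0 : z ≠ 0 := fun h0 => by rw [h0, norm_zero] at hz; exact zero_ne_one hz
          refine ⟨z⁻¹, by rw [norm_inv, hz, inv_one], ?_⟩
          have h2 : ρ x⁻¹ * ρ x = 1 := by rw [← map_mul, inv_mul_cancel, map_one]
          rw [hx, mul_smul_comm, mul_one] at h2
          rw [← h2, smul_smul, inv_mul_cancel₀ hz0, one_smul] }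
    have hN' : N' = ⊤ := hgen N'
      ⟨c, Complex.norm_eq_one_of_pow_eq_one hcp S.hp.ne_zero, hc⟩
      fun B => ⟨1, norm_one, by rw [hker B, one_smul]⟩
    have hnorm : ∀ g : G, (χ : G → ℂ) g * conj ((χ : G → ℂ) g) = (n : ℂ) * (n : ℂ) := by
      intro g
      have hg : g ∈ N' := by rw [hN']; trivial
      obtain ⟨z, hz, hg'⟩ := hg
      have h2 : (χ : G → ℂ) g = z * n := by
        rw [← hχ, Representation.character, hg', map_smul, LinearMap.trace_one,
          Module.finrank_fin_fun, smul_eq_mul]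
      rw [h2, Complex.mul_conj', norm_mul, hz, one_mul, Complex.norm_natCast]
      push_cast
      ring
    have h4 := H12.classInner_irr_self χ
    rw [H12.classInner_def, Finset.sum_congr rfl fun g _ => hnorm g, Finset.sum_const,
      Finset.card_univ, nsmul_eq_mul, ← Nat.card_eq_fintype_card,
      inv_mul_cancel_left₀ hG0] at h4
    have hn1 : n = 1 := Nat.eq_one_of_mul_eq_one_right (by exact_mod_cast h4)
    have h1 : (χ : G → ℂ) 1 = 1 := by rw [← hχ]; simp [hn1]
    exact ⟨h1, fun B => (h B).trans h1⟩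
  -- linear characters
  have hval : ∀ χ : IrrCharacter G, (χ : G → ℂ) 1 = 1 → (χ : G → ℂ) a ^ p = 1 ∧
      ∀ B : ↥D, (χ : G → ℂ) (a * (β B)⁻¹) = 1 := by
    intro χ h1
    set l := H13.linHom (H12.isCharacter_irr χ) h1 with hl
    constructor
    · rw [← H13.linHom_apply (H12.isCharacter_irr χ) h1, ← hl, ← Units.val_pow_eq_pow_val,
        ← map_pow, hap, map_one, Units.val_one]
    · intro B
      rcases hlin χ with h | h
      · exact absurd h (H13.linear_ne_zero (H12.isCharacter_irr χ) h1 a)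
      · exact h.2 B
  set L1 : Finset (IrrCharacter G) := Finset.univ.filter fun χ => (χ : G → ℂ) 1 = 1 with hL1
  have hcol : (L1.card : ℂ) = (N0 : ℂ) := by
    have h1 := H12.column_orthogonality a a
    rw [if_pos (IsConj.refl a)] at h1
    rw [hN0, ← h1, hL1, Finset.card_filter]
    push_cast
    refine Finset.sum_congr rfl fun χ _ => ?_
    split_ifs with h
    · rw [Complex.mul_conj', Complex.norm_eq_one_of_pow_eq_one (hval χ h).1 S.hp.ne_zero]
      simp
    · rcases hlin χ with h2 | h2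
      · rw [h2, zero_mul]
      · exact absurd h2.1 h
  have hL1le : L1.card ≤ p := by
    refine (Finset.card_le_card_of_injOn (fun χ : IrrCharacter G => (χ : G → ℂ) a)
      (t := Polynomial.nthRootsFinset p (1 : ℂ)) ?_ ?_).trans ?_
    · intro χ hχ
      simp only [hL1, Finset.coe_filter, Finset.mem_univ, true_and, Set.mem_ofPred_eq] at hχ
      rw [Finset.mem_coe, Polynomial.mem_nthRootsFinset S.hp.pos]
      exact (hval χ hχ).1
    · intro χ hχ ψ hψ hxy
      simp only [hL1, Finset.coe_filter, Finset.mem_univ, true_and, Set.mem_ofPred_eq] at hχ hψ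
      set l := H13.linHom (H12.isCharacter_irr χ) hχ
      set m := H13.linHom (H12.isCharacter_irr ψ) hψ
      have heq : MonoidHom.eqLocus l m = ⊤ := hgen _ (Units.ext hxy) fun B => Units.ext (by
        rw [H13.linHom_apply, H13.linHom_apply, (hval χ hχ).2 B, (hval ψ hψ).2 B])
      refine Subtype.ext (funext fun g => ?_)
      have hg : g ∈ MonoidHom.eqLocus l m := by rw [heq]; trivial
      exact congrArg Units.val hg
    · exact (Multiset.toFinset_card_le _).trans (Polynomial.card_nthRoots p 1)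
  have hN0le : p ≤ N0 := by
    rw [hN0, ← S.card A hA]
    refine Subgroup.card_le_of_le ?_
    intro x hx
    rw [Subgroup.mem_centralizer_singleton_iff]
    obtain ⟨i, rfl⟩ := S.exists_pow hA ha ha1 hx
    exact (Commute.pow_self a i).eq
  have hL1eq : L1.card = N0 := by exact_mod_cast hcol
  have hcent : Subgroup.centralizer ({a} : Set G) = A := by
    refine (Subgroup.eq_of_le_of_card_ge ?_ ?_).symm
    · intro x hx
      rw [Subgroup.mem_centralizer_singleton_iff]
      obtain ⟨i, rfl⟩ := S.exists_pow hA ha ha1 hx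
      exact (Commute.pow_self a i).eq
    · rw [S.card A hA, ← hN0, ← hL1eq]; exact hL1le
  obtain ⟨χ, hχmem, hχa⟩ : ∃ χ ∈ L1, (χ : G → ℂ) a ≠ 1 := by
    by_contra hall
    push Not at hall
    have h2 : L1.card ≤ 1 := Finset.card_le_one.2 fun χ hχ ψ hψ => by
      have hχ1 : (χ : G → ℂ) 1 = 1 := by simpa [hL1] using hχ
      have hψ1 : (ψ : G → ℂ) 1 = 1 := by simpa [hL1] using hψ
      set l := H13.linHom (H12.isCharacter_irr χ) hχ1
      set m := H13.linHom (H12.isCharacter_irr ψ) hψ1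
      have heq : MonoidHom.eqLocus l m = ⊤ := hgen _
        (Units.ext ((hall χ hχ).trans (hall ψ hψ).symm)) fun B => Units.ext (by
        rw [H13.linHom_apply, H13.linHom_apply, (hval χ hχ1).2 B, (hval ψ hψ1).2 B])
      refine Subtype.ext (funext fun g => ?_)
      have hg : g ∈ MonoidHom.eqLocus l m := by rw [heq]; trivial
      exact congrArg Units.val hg
    have := S.hp.two_le
    omega
  have hχ1 : (χ : G → ℂ) 1 = 1 := by simpa [hL1] using hχmem
  set l := H13.linHom (H12.isCharacter_irr χ) hχ1 with hl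
  have hla : l a ≠ 1 := fun h => hχa (congrArg Units.val h)
  have hlβ : ∀ B : ↥D, a * (β B)⁻¹ ∈ l.ker := fun B =>
    MonoidHom.mem_ker.2 (Units.ext ((hval χ hχ1).2 B))
  have hfix : ∀ x ∈ l.ker, (∀ y ∈ A, x * y = y * x) → x = 1 := by
    intro x hx hc
    have hxA : x ∈ A := by
      rw [← hcent, Subgroup.mem_centralizer_singleton_iff]; exact hc a ha
    by_contra hx1
    obtain ⟨i, hi⟩ := S.exists_pow hA hxA hx1 ha
    apply hla
    rw [← hi, map_pow, MonoidHom.mem_ker.1 hx, one_pow]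
  refine ⟨l.ker, inferInstance, ?_, ?_, hfix⟩
  · let τ : ↥l.ker → ↥l.ker := fun x => ⟨(x : G) * a * (x : G)⁻¹ * a⁻¹, by
      rw [MonoidHom.mem_ker, map_mul, map_mul, map_mul, map_inv, map_inv,
        MonoidHom.mem_ker.1 x.2]
      simp⟩
    have hτ : Function.Injective τ := by
      intro x y h
      have h2 : (x : G) * a * (x : G)⁻¹ * a⁻¹ = (y : G) * a * (y : G)⁻¹ * a⁻¹ :=
        congrArg Subtype.val h
      rw [mul_left_inj] at h2
      have h3 : (y : G)⁻¹ * x * a = a * ((y : G)⁻¹ * x) := by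
        calc (y : G)⁻¹ * x * a = (y : G)⁻¹ * ((x : G) * a * (x : G)⁻¹) * x := by group
          _ = (y : G)⁻¹ * ((y : G) * a * (y : G)⁻¹) * x := by rw [h2]
          _ = _ := by group
      have h4 := hfix _ (l.ker.mul_mem (l.ker.inv_mem y.2) x.2) fun z hz => by
        obtain ⟨i, rfl⟩ := S.exists_pow hA ha ha1 hz
        exact (Commute.pow_right h3 i).eq
      exact Subtype.ext (inv_mul_eq_one.1 h4).symm
    intro m
    obtain ⟨x, hx⟩ := (Finite.injective_iff_surjective.1 hτ) m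
    let B : ↥D := ⟨cnj (x : G) A, S.inv A hA x⟩
    have hb : β B = (x : G) * a * (x : G)⁻¹ := by
      obtain ⟨i, hi⟩ := S.exists_pow B.2 (hβmem B) (hβ1 B ha1) (conj_mem_cnj (g := (x : G)) ha)
      have h1 : l (β B) = l a := by
        have h2 := MonoidHom.mem_ker.1 (hlβ B)
        rw [map_mul, map_inv, mul_inv_eq_one] at h2
        exact h2.symm
      have h3 : l a ^ i = l a := by
        conv_lhs => rw [← h1, ← map_pow, hi]
        simp
      have h4 : l a ^ ((i : ℤ) - 1) = 1 := by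
        rw [zpow_sub, zpow_natCast, h3, zpow_one, mul_inv_cancel]
      have h5 : (p : ℤ) ∣ (i : ℤ) - 1 := by
        have h6 : (orderOf (l a) : ℤ) ∣ (i : ℤ) - 1 := orderOf_dvd_iff_zpow_eq_one.2 h4
        rwa [orderOf_eq_prime (by rw [← map_pow, hap, map_one]) hla] at h6
      rw [← hi]
      obtain ⟨c, hc⟩ := h5
      have h7 : β B ^ ((i : ℤ) - 1) = 1 := by
        rw [hc, zpow_mul, zpow_natCast, hβp, one_zpow]
      rw [zpow_sub, zpow_natCast, zpow_one, mul_inv_eq_one] at h7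
      exact h7.symm
    obtain ⟨k, hk⟩ := hβq B
    refine ⟨k, Subtype.ext ?_⟩
    rw [SubmonoidClass.coe_pow, OneMemClass.coe_one, ← hx]
    change ((x : G) * a * (x : G)⁻¹ * a⁻¹) ^ q ^ k = 1
    rw [← hb]
    exact hk
  · exact hgen _ (Subgroup.mem_sup_right ha) fun B => Subgroup.mem_sup_left (hlβ B)

end Pre

end H8.PF
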