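import Mathlib.GroupTheory.Sylow
import Mathlib.GroupTheory.PGroup
import Mathlib.Algebra.Group.Subgroup.Pointwise

/-!
# Groups generated by subgroups of order `p` whose pairs generate `q`-by-`p` groups

`D` is an invariant set of subgroups of order `p`; two distinct members `A`, `B` generate `K ⊔ A`
with `K` a `q`-group normalised by `A`, and never commute.
-/

namespace H8.PF

open Subgroup

variable {G : Type*} [Group G]

/-- The conjugate `g A g⁻¹`. -/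
abbrev cnj (g : G) (A : Subgroup G) : Subgroup G := A.map (MulAut.conj g).toMonoidHom

theorem mem_cnj {g x : G} {A : Subgroup G} : x ∈ cnj g A ↔ g⁻¹ * x * g ∈ A := by
  constructor
  · rintro ⟨a, ha, rfl⟩
    simpa [mul_assoc] using ha
  · intro h
    exact ⟨_, h, by simp [mul_assoc]⟩

theorem conj_mem_cnj {g x : G} {A : Subgroup G} (hx : x ∈ A) : g * x * g⁻¹ ∈ cnj g A :=
  ⟨x, hx, rfl⟩

theorem cnj_cnj (g h : G) (A : Subgroup G) : cnj g (cnj h A) = cnj (g * h) A := by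
  ext x
  simp only [mem_cnj, mul_inv_rev]
  group

theorem cnj_one (A : Subgroup G) : cnj 1 A = A := by
  ext x
  simp [mem_cnj]

theorem cnj_of_mem {g : G} {A : Subgroup G} (hg : g ∈ A) : cnj g A = A := by
  ext x
  rw [mem_cnj]
  constructor
  · intro h
    have := A.mul_mem (A.mul_mem hg h) (A.inv_mem hg)
    simpa [mul_assoc] using this
  · intro h
    exact A.mul_mem (A.mul_mem (A.inv_mem hg) h) hg

theorem cnj_inv_eq {g : G} {A : Subgroup G} (h : cnj g A = A) : cnj g⁻¹ A = A := by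
  conv_lhs => rw [← h, cnj_cnj, inv_mul_cancel, cnj_one]

theorem conj_pow_of_eq {g a : G} {n : ℕ} (h : g * a * g⁻¹ = a ^ n) (i : ℕ) :
    g * a ^ i * g⁻¹ = (a ^ i) ^ n := by
  rw [← conj_pow, h, ← pow_mul, ← pow_mul, mul_comm]

/-- An element of `q`-power order. -/
def QEl (q : ℕ) (x : G) : Prop := ∃ m : ℕ, x ^ q ^ m = 1

theorem QEl.eq_one {p q : ℕ} (hp : p.Prime) (hq : q.Prime) (hne : p ≠ q) {x : G} (h : QEl q x)
    (hx : x ^ p = 1) : x = 1 := by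
  obtain ⟨m, hm⟩ := h
  have hco : Nat.Coprime p (q ^ m) := ((Nat.coprime_primes hp hq).2 hne).pow_right m
  exact orderOf_eq_one_iff.1 (Nat.eq_one_of_dvd_coprimes hco (orderOf_dvd_of_pow_eq_one hx)
    (orderOf_dvd_of_pow_eq_one hm))

theorem QEl.conj {q : ℕ} {x : G} (h : QEl q x) (g : G) : QEl q (g * x * g⁻¹) := by
  obtain ⟨m, hm⟩ := h
  exact ⟨m, by rw [conj_pow, hm, mul_one, mul_inv_cancel]⟩

theorem qel_of_mem {q : ℕ} {K : Subgroup G} (hK : IsPGroup q K) {x : G} (hx : x ∈ K) :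
    QEl q x := by
  obtain ⟨m, hm⟩ := hK ⟨x, hx⟩
  exact ⟨m, by simpa using congrArg Subtype.val hm⟩

/-- The data of a pair. -/
structure IsKer (q : ℕ) (A B K : Subgroup G) : Prop where
  isp : IsPGroup q K
  norm : ∀ a ∈ A, ∀ k ∈ K, a * k * a⁻¹ ∈ K
  sup_eq : A ⊔ B = A ⊔ K

/-- The hypothesis on pairs. -/
structure Pre (p q : ℕ) (D : Set (Subgroup G)) : Prop where
  hp : p.Prime
  hq : q.Prime
  hne : p ≠ q
  hp2 : p ≠ 2
  hq2 : q ≠ 2
  card : ∀ A ∈ D, Nat.card ↥A = p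
  inv : ∀ A ∈ D, ∀ g : G, cnj g A ∈ D
  pair : ∀ A ∈ D, ∀ B ∈ D, A ≠ B → ∃ K : Subgroup G, IsKer q A B K
  ncomm : ∀ A ∈ D, ∀ B ∈ D, A ≠ B → ∃ a ∈ A, ∃ b ∈ B, a * b ≠ b * a

/-- With closed pairs. -/
structure Sys (p q : ℕ) (D : Set (Subgroup G)) : Prop extends Pre p q D where
  closed : ∀ A ∈ D, ∀ B ∈ D, ∀ C ∈ D, ∀ E ∈ D, A ≠ B → C ≠ E → C ≤ A ⊔ B → E ≤ A ⊔ B →
    C ⊔ E = A ⊔ B

variable {p q : ℕ} {D : Set (Subgroup G)}

namespace Pre

variable (S : Pre p q D)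
include S

theorem pow_p {A : Subgroup G} (hA : A ∈ D) {x : G} (hx : x ∈ A) : x ^ p = 1 := by
  have h : (⟨x, hx⟩ : A) ^ Nat.card ↥A = 1 := pow_card_eq_one'
  rw [S.card A hA] at h
  simpa using congrArg Subtype.val h

theorem eq_one_of_qel {A : Subgroup G} (hA : A ∈ D) {x : G} (hx : x ∈ A) (h : QEl q x) :
    x = 1 := h.eq_one S.hp S.hq S.hne (S.pow_p hA hx)

theorem orderOf_mem {A : Subgroup G} (hA : A ∈ D) {x : G} (hx : x ∈ A) (h1 : x ≠ 1) :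
    orderOf x = p :=
  have : Fact p.Prime := ⟨S.hp⟩
  orderOf_eq_prime (S.pow_p hA hx) h1

theorem zpowers_eq [Finite G] {A : Subgroup G} (hA : A ∈ D) {x : G} (hx : x ∈ A) (h1 : x ≠ 1) :
    Subgroup.zpowers x = A := by
  apply Subgroup.eq_of_le_of_card_ge (by simpa using hx)
  rw [S.card A hA, Nat.card_zpowers, S.orderOf_mem hA hx h1]

theorem exists_pow [Finite G] {A : Subgroup G} (hA : A ∈ D) {x y : G} (hx : x ∈ A) (h1 : x ≠ 1)
    (hy : y ∈ A) : ∃ i : ℕ, x ^ i = y := by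
  rw [← S.zpowers_eq hA hx h1, ← mem_powers_iff_mem_zpowers] at hy
  exact hy

theorem exists_ne_one {A : Subgroup G} (hA : A ∈ D) : ∃ a ∈ A, a ≠ 1 := by
  by_contra h
  push Not at h
  have h2 : A = ⊥ := (Subgroup.eq_bot_iff_forall A).2 h
  have h3 := S.card A hA
  rw [h2, Subgroup.card_bot] at h3
  exact S.hp.ne_one h3.symm

theorem eq_of_mem [Finite G] {A B : Subgroup G} (hA : A ∈ D) (hB : B ∈ D) {x : G} (hxA : x ∈ A)
    (hxB : x ∈ B) (h1 : x ≠ 1) : A = B := by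
  rw [← S.zpowers_eq hA hxA h1, S.zpowers_eq hB hxB h1]

section KerLemmas

variable {A B K : Subgroup G}

theorem ker_decomp (hK : IsKer q A B K) {x : G} (hx : x ∈ A ⊔ K) :
    ∃ k ∈ K, ∃ a ∈ A, x = k * a := by
  have hle : A ≤ Subgroup.normalizer (K : Set G) := by
    intro a ha
    rw [Subgroup.mem_normalizer_iff]
    intro k
    refine ⟨fun hk => hK.norm a ha k hk, fun hk => ?_⟩
    have h2 := hK.norm a⁻¹ (A.inv_mem ha) _ hk
    simpa [mul_assoc] using h2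
  rw [← SetLike.mem_coe, Subgroup.coe_mul_of_left_le_normalizer_right _ _ hle] at hx
  obtain ⟨a, ha, k, hk, rfl⟩ := hx
  exact ⟨a * k * a⁻¹, hK.norm a ha k hk, a, ha, by group⟩

theorem ker_pow (hK : IsKer q A B K) {k a : G} (hk : k ∈ K) (ha : a ∈ A) (n : ℕ) :
    ∃ k' ∈ K, (k * a) ^ n = k' * a ^ n := by
  induction n with
  | zero => exact ⟨1, K.one_mem, by simp⟩
  | succ n ih =>
    obtain ⟨k', hk', h⟩ := ih
    refine ⟨k' * (a ^ n * k * (a ^ n)⁻¹), K.mul_mem hk' (hK.norm _ (A.pow_mem ha n) _ hk), ?_⟩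
    rw [pow_succ, h, pow_succ]
    group

theorem ker_qel_mem (hA : A ∈ D) (hK : IsKer q A B K) {x : G} (hx : x ∈ A ⊔ K) (hq : QEl q x) :
    x ∈ K := by
  obtain ⟨k, hk, a, ha, rfl⟩ := S.ker_decomp hK hx
  obtain ⟨m, hm⟩ := hq
  obtain ⟨k', hk', h⟩ := S.ker_pow hK hk ha (q ^ m)
  rw [hm] at h
  have h2 : a ^ q ^ m ∈ K := by
    have h3 : a ^ q ^ m = k'⁻¹ := (inv_eq_of_mul_eq_one_right h.symm).symm
    rw [h3]; exact K.inv_mem hk'
  have h4 : a ^ q ^ m = 1 := S.eq_one_of_qel hA (A.pow_mem ha _) (qel_of_mem hK.isp h2)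
  rw [S.eq_one_of_qel hA ha ⟨m, h4⟩, mul_one]
  exact hk

theorem ker_inf (hA : A ∈ D) (hK : IsKer q A B K) {x : G} (hxA : x ∈ A) (hxK : x ∈ K) : x = 1 :=
  S.eq_one_of_qel hA hxA (qel_of_mem hK.isp hxK)

theorem card_sup (hA : A ∈ D) (hK : IsKer q A B K) :
    Nat.card ↥(A ⊔ K) = Nat.card ↥K * p := by
  let f : K × A → ↥(A ⊔ K) := fun x => ⟨x.1.1 * x.2.1,
    mul_mem (Subgroup.mem_sup_right x.1.2) (Subgroup.mem_sup_left x.2.2)⟩
  have hf : Function.Bijective f := by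
    constructor
    · rintro ⟨⟨k, hk⟩, ⟨a, ha⟩⟩ ⟨⟨k', hk'⟩, ⟨a', ha'⟩⟩ h
      have h2 : k * a = k' * a' := congrArg Subtype.val h
      have h3 : k'⁻¹ * k = a' * a⁻¹ := by
        calc k'⁻¹ * k = k'⁻¹ * (k * a) * a⁻¹ := by group
          _ = k'⁻¹ * (k' * a') * a⁻¹ := by rw [h2]
          _ = a' * a⁻¹ := by group
      have h4 : a' * a⁻¹ = 1 := S.ker_inf hA hK (A.mul_mem ha' (A.inv_mem ha))
        (h3 ▸ K.mul_mem (K.inv_mem hk') hk)
      have h5 : a = a' := (mul_inv_eq_one.1 h4).symm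
      subst h5
      have h6 : k = k' := mul_right_cancel h2
      subst h6
      rfl
    · rintro ⟨x, hx⟩
      obtain ⟨k, hk, a, ha, rfl⟩ := S.ker_decomp hK hx
      exact ⟨⟨⟨k, hk⟩, ⟨a, ha⟩⟩, rfl⟩
  rw [← Nat.card_congr (Equiv.ofBijective f hf), Nat.card_prod, S.card A hA]

theorem ker_conj_member [Finite G] (hA : A ∈ D) (hK : IsKer q A B K) {C : Subgroup G} (hC : C ∈ D)
    (hle : C ≤ A ⊔ K) : ∃ k ∈ K, C = cnj k A := by
  have : Fact p.Prime := ⟨S.hp⟩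
  have : Fact q.Prime := ⟨S.hq⟩
  set W := A ⊔ K with hW
  have hAW : A ≤ W := le_sup_left
  have hcA : Nat.card ↥(A.subgroupOf W) = p := by
    rw [Nat.card_congr (Subgroup.subgroupOfEquivOfLe hAW).toEquiv, S.card A hA]
  have hcC : Nat.card ↥(C.subgroupOf W) = p := by
    rw [Nat.card_congr (Subgroup.subgroupOfEquivOfLe hle).toEquiv, S.card C hC]
  obtain ⟨m, hm⟩ := IsPGroup.iff_card.1 hK.isp
  have hidx : ¬ p ∣ (A.subgroupOf W).index := by
    have h := Subgroup.card_mul_index (A.subgroupOf W)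
    rw [hcA, hW, S.card_sup hA hK, hm, mul_comm] at h
    rw [Nat.eq_of_mul_eq_mul_right S.hp.pos h]
    intro hd
    exact S.hne ((Nat.prime_dvd_prime_iff_eq S.hp S.hq).1 (S.hp.dvd_of_dvd_pow hd))
  let PA : Sylow p ↥W := (IsPGroup.of_card (n := 1) (by rw [hcA, pow_one])).toSylow hidx
  obtain ⟨PC, hPC⟩ := (IsPGroup.of_card (n := 1) (by rw [hcC, pow_one]) :
    IsPGroup p ↥(C.subgroupOf W)).exists_le_sylow
  obtain ⟨g, hg⟩ := MulAction.exists_smul_eq ↥W PA PC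
  have hcard : Nat.card ↥(PC : Subgroup ↥W) = p := by
    calc Nat.card ↥(PC : Subgroup ↥W) = Nat.card ↥(PA : Subgroup ↥W) := by
          rw [Sylow.card_eq_multiplicity, Sylow.card_eq_multiplicity]
      _ = p := hcA
  have hPCeq : (PC : Subgroup ↥W) = C.subgroupOf W :=
    (Subgroup.eq_of_le_of_card_ge hPC (by rw [hcard, hcC])).symm
  obtain ⟨k, hk, a, ha, hka⟩ := S.ker_decomp hK (x := (g : G)) g.2
  refine ⟨k, hk, ?_⟩
  have key : ∀ y : ↥W, y ∈ C.subgroupOf W ↔ g⁻¹ * y * g ∈ A.subgroupOf W := by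
    intro y
    rw [← hPCeq, ← hg, Sylow.coe_subgroup_smul, Subgroup.mem_pointwise_smul_iff_inv_smul_mem]
    simp [PA, mul_assoc]
  have h1 : C = cnj (g : G) A := by
    ext x
    rw [mem_cnj]
    constructor
    · intro hx
      exact (key ⟨x, hle hx⟩).1 hx
    · intro hx
      have hxW : x ∈ W := by
        have := W.mul_mem (W.mul_mem g.2 (hAW hx)) (W.inv_mem g.2)
        simpa [mul_assoc] using this
      exact (key ⟨x, hxW⟩).2 hx
  rw [h1, hka, ← cnj_cnj, cnj_of_mem ha]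

theorem ker_centralizes (hA : A ∈ D) (hK : IsKer q A B K) {k : G} (hk : k ∈ K)
    (hkA : cnj k A = A) {a : G} (ha : a ∈ A) : a * k = k * a := by
  have h1 : k * a * k⁻¹ ∈ A := hkA ▸ conj_mem_cnj ha
  have h2 : a⁻¹ * (k * a * k⁻¹) ∈ K := by
    have h3 := hK.norm a⁻¹ (A.inv_mem ha) k hk
    rw [inv_inv] at h3
    have h4 := K.mul_mem h3 (K.inv_mem hk)
    simpa [mul_assoc] using h4
  have h5 := S.ker_inf hA hK (A.mul_mem (A.inv_mem ha) h1) h2
  exact (eq_mul_inv_iff_mul_eq.1 (inv_mul_eq_one.1 h5))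

end KerLemmas

theorem not_normalize [Finite G] {A B : Subgroup G} (hA : A ∈ D) (hB : B ∈ D) (hAB : A ≠ B)
    {b : G} (hb : b ∈ B) (hb1 : b ≠ 1) : cnj b A ≠ A := by
  intro h
  obtain ⟨K, hK⟩ := S.pair A hA B hB hAB
  obtain ⟨k, hk, a, ha, hka⟩ := S.ker_decomp hK (x := b) (hK.sup_eq ▸ Subgroup.mem_sup_right hb)
  have hkA : cnj k A = A := by
    rw [hka, ← cnj_cnj, cnj_of_mem ha] at h; exact h
  have hcen : ∀ a' ∈ A, Commute a' b := by
    intro a' ha'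
    have h1 : Commute a' k := S.ker_centralizes hA hK hk hkA ha'
    have h2 : Commute a' a := by
      obtain ⟨a0, ha0, ha01⟩ := S.exists_ne_one hA
      obtain ⟨i, rfl⟩ := S.exists_pow hA ha0 ha01 ha'
      obtain ⟨j, rfl⟩ := S.exists_pow hA ha0 ha01 ha
      exact Commute.pow_pow rfl i j
    rw [hka]; exact h1.mul_right h2
  obtain ⟨a', ha', b', hb', hne⟩ := S.ncomm A hA B hB hAB
  obtain ⟨i, rfl⟩ := S.exists_pow hB hb hb1 hb'
  exact hne ((hcen a' ha').pow_right i)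

theorem transitive [Finite G] {A B : Subgroup G} (hA : A ∈ D) (hB : B ∈ D) :
    ∃ g : G, B = cnj g A := by
  by_cases h : A = B
  · exact ⟨1, by rw [cnj_one, h]⟩
  obtain ⟨K, hK⟩ := S.pair A hA B hB h
  obtain ⟨k, -, hk⟩ := S.ker_conj_member hA hK hB (hK.sup_eq ▸ le_sup_right)
  exact ⟨k, hk⟩

/-- In each member there is exactly one element congruent to a given one. -/
theorem exists_canon [Finite G] {A B : Subgroup G} (hA : A ∈ D) (hB : B ∈ D) {a : G}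
    (ha : a ∈ A) : ∃ b ∈ B, QEl q (b * a⁻¹) ∧ (a ≠ 1 → b ≠ 1) ∧
      ∀ b' ∈ B, QEl q (b' * a⁻¹) → b' = b := by
  by_cases h : A = B
  · subst h
    refine ⟨a, ha, ⟨0, by simp⟩, fun h => h, fun b' hb' hq => ?_⟩
    exact mul_inv_eq_one.1 (S.eq_one_of_qel hA (A.mul_mem hb' (A.inv_mem ha)) hq)
  obtain ⟨K, hK⟩ := S.pair A hA B hB h
  obtain ⟨k, hk, hkB⟩ := S.ker_conj_member hA hK hB (hK.sup_eq ▸ le_sup_right)
  have hb : k * a * k⁻¹ ∈ B := hkB ▸ conj_mem_cnj ha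
  have hbK : k * a * k⁻¹ * a⁻¹ ∈ K := by
    have := K.mul_mem hk (hK.norm a ha _ (K.inv_mem hk))
    simpa [mul_assoc] using this
  refine ⟨_, hb, qel_of_mem hK.isp hbK, fun h1 h2 => h1 (conj_eq_one_iff.1 h2), fun b' hb' hq => ?_⟩
  have hB' : b' * a⁻¹ ∈ A ⊔ K := by
    refine mul_mem ?_ (inv_mem (Subgroup.mem_sup_left ha))
    rw [← hK.sup_eq]; exact Subgroup.mem_sup_right hb'
  have h3 := K.mul_mem (S.ker_qel_mem hA hK hB' hq) (K.inv_mem hbK)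
  rw [show b' * a⁻¹ * (k * a * k⁻¹ * a⁻¹)⁻¹ = b' * (k * a * k⁻¹)⁻¹ by group] at h3
  exact mul_inv_eq_one.1 (S.eq_one_of_qel hB (B.mul_mem hb' (B.inv_mem hb)) (qel_of_mem hK.isp h3))

/-- An element fixing two members acts in the same way on both. -/
theorem same_exp [Finite G] {A B : Subgroup G} (hA : A ∈ D) (hB : B ∈ D) {g : G}
    (hgB : cnj g B = B) {a : G} (ha : a ∈ A) (ha1 : a ≠ 1) {n : ℕ}
    (hn : g * a * g⁻¹ = a ^ n) {b : G} (hb : b ∈ B) : g * b * g⁻¹ = b ^ n := by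
  by_cases h : A = B
  · subst h
    obtain ⟨i, rfl⟩ := S.exists_pow hA ha ha1 hb
    exact conj_pow_of_eq hn i
  obtain ⟨K, hK⟩ := S.pair A hA B hB h
  obtain ⟨k, hk, hkB⟩ := S.ker_conj_member hA hK hB (hK.sup_eq ▸ le_sup_right)
  have hk1 : k * (a * k⁻¹ * a⁻¹) ∈ K := K.mul_mem hk (hK.norm a ha _ (K.inv_mem hk))
  set b₀ := k * a * k⁻¹ with hb₀
  have hb₀B : b₀ ∈ B := hkB ▸ conj_mem_cnj ha
  have hb₀1 : b₀ ≠ 1 := fun h => ha1 (conj_eq_one_iff.1 h)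
  obtain ⟨m, hm⟩ := S.exists_pow hB hb₀B hb₀1 (y := g * b₀ * g⁻¹) (by
    have := conj_mem_cnj (g := g) hb₀B
    rwa [hgB] at this)
  have hmn : a ^ m = a ^ n := by
    have hqel : QEl q (b₀ ^ m * (a ^ n)⁻¹) := by
      rw [hm, ← hn, show g * b₀ * g⁻¹ * (g * a * g⁻¹)⁻¹ = g * (b₀ * a⁻¹) * g⁻¹ by group]
      refine (qel_of_mem hK.isp ?_).conj g
      rw [hb₀]; simpa [mul_assoc] using hk1
    have hmem : b₀ ^ m * (a ^ n)⁻¹ ∈ A ⊔ K := mul_mem
      (pow_mem (hK.sup_eq ▸ Subgroup.mem_sup_right hb₀B) m)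
      (inv_mem (Subgroup.mem_sup_left (A.pow_mem ha n)))
    have hK1 := S.ker_qel_mem hA hK hmem hqel
    obtain ⟨k', hk', hk'm⟩ := S.ker_pow hK hk1 ha m
    rw [show k * (a * k⁻¹ * a⁻¹) * a = b₀ by rw [hb₀]; group] at hk'm
    have h5 := K.mul_mem (K.inv_mem hk') hK1
    rw [hk'm, show k'⁻¹ * (k' * a ^ m * (a ^ n)⁻¹) = a ^ m * (a ^ n)⁻¹ by group] at h5
    exact mul_inv_eq_one.1 (S.ker_inf hA hK (A.mul_mem (A.pow_mem ha m) (A.inv_mem (A.pow_mem ha n))) h5)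
  have hbn : g * b₀ * g⁻¹ = b₀ ^ n := by rw [← hm, hb₀, conj_pow, conj_pow, hmn]
  obtain ⟨i, rfl⟩ := S.exists_pow hB hb₀B hb₀1 hb
  exact conj_pow_of_eq hbn i

end Pre

end H8.PF
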