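import Cfsg.Agent.H8.PairFrob.Basic
import Mathlib.GroupTheory.Transfer
import Mathlib.GroupTheory.SpecificGroups.Cyclic
import Mathlib.Algebra.Ring.Parity
import Mathlib.Algebra.BigOperators.Group.Finset.Basic

/-!
# The number of members is odd; no element inverts a member
-/

namespace H8.PF

open Subgroup

variable {G : Type*} [Group G] {p q : ℕ} {D : Set (Subgroup G)}

theorem mem_normalizer_cnj {g : G} {A : Subgroup G} :
    g ∈ Subgroup.normalizer (A : Set G) ↔ cnj g A = A := by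
  rw [Subgroup.mem_normalizer_iff]
  constructor
  · intro h
    ext x
    rw [mem_cnj, h]
    simp [mul_assoc]
  · intro h x
    constructor
    · intro hx
      rw [← h]; exact conj_mem_cnj hx
    · intro hx
      rw [← h, mem_cnj] at hx
      simpa [mul_assoc] using hx

theorem cnj_eq_cnj_iff {g h : G} {A : Subgroup G} :
    cnj g A = cnj h A ↔ g⁻¹ * h ∈ Subgroup.normalizer (A : Set G) := by
  rw [mem_normalizer_cnj, ← cnj_cnj]
  constructor
  · intro e
    rw [← e, cnj_cnj, inv_mul_cancel, cnj_one]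
  · intro e
    conv_lhs => rw [← e]
    rw [cnj_cnj, mul_inv_cancel, cnj_one]

theorem Pre.card_eq_index [Finite G] (S : Pre p q D) {A : Subgroup G} (hA : A ∈ D) :
    Nat.card D = (Subgroup.normalizer (A : Set G)).index := by
  let f : G ⧸ Subgroup.normalizer (A : Set G) → D :=
    Quotient.lift (fun g : G => (⟨cnj g A, S.inv A hA g⟩ : D)) fun g h hgh =>
      Subtype.ext (cnj_eq_cnj_iff.2 (QuotientGroup.leftRel_apply.1 hgh))
  refine (Nat.card_congr (Equiv.ofBijective f ⟨?_, ?_⟩)).symm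
  · rintro ⟨g⟩ ⟨h⟩ e
    exact Quotient.sound (QuotientGroup.leftRel_apply.2
      (cnj_eq_cnj_iff.1 (congrArg Subtype.val e)))
  · rintro ⟨B, hB⟩
    obtain ⟨g, hg⟩ := S.transitive hA hB
    exact ⟨QuotientGroup.mk g, Subtype.ext hg.symm⟩

/-- The number of members in a pair. -/
theorem Pre.card_ker_members [Finite G] (S : Pre p q D) {A B K : Subgroup G} (hA : A ∈ D)
    (hK : IsKer q A B K) :
    Nat.card {C : Subgroup G // C ∈ D ∧ C ≤ A ⊔ K} =
      ((Subgroup.normalizer (A : Set G)).subgroupOf K).index := by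
  let N := (Subgroup.normalizer (A : Set G)).subgroupOf K
  let f : ↥K ⧸ N → {C : Subgroup G // C ∈ D ∧ C ≤ A ⊔ K} :=
    Quotient.lift (fun k : ↥K => (⟨cnj (k : G) A, S.inv A hA k, by
      rintro x hx
      rw [mem_cnj] at hx
      have := mul_mem (mul_mem (Subgroup.mem_sup_right k.2) (Subgroup.mem_sup_left hx))
        (inv_mem (Subgroup.mem_sup_right (S := A) k.2))
      simpa [mul_assoc] using this⟩ : {C : Subgroup G // C ∈ D ∧ C ≤ A ⊔ K})) fun g h hgh =>
      Subtype.ext (cnj_eq_cnj_iff.2 (by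
        have h2 : g⁻¹ * h ∈ N := QuotientGroup.leftRel_apply.1 hgh
        simpa [N, Subgroup.mem_subgroupOf] using h2))
  refine (Nat.card_congr (Equiv.ofBijective f ⟨?_, ?_⟩)).symm
  · rintro ⟨g⟩ ⟨h⟩ e
    refine Quotient.sound (QuotientGroup.leftRel_apply.2 ?_)
    have h2 := cnj_eq_cnj_iff.1 (congrArg Subtype.val e)
    change g⁻¹ * h ∈ N
    simpa [N, Subgroup.mem_subgroupOf] using h2
  · rintro ⟨C, hC, hle⟩
    obtain ⟨k, hk, hk2⟩ := S.ker_conj_member hA hK hC hle
    exact ⟨QuotientGroup.mk (⟨k, hk⟩ : ↥K), Subtype.ext hk2.symm⟩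

theorem Sys.card_odd [Finite G] (S : Sys p q D) {A : Subgroup G} (hA : A ∈ D) :
    Odd (Nat.card D) := by
  classical
  have : Fact q.Prime := ⟨S.hq⟩
  have := Fintype.ofFinite (Subgroup G)
  set s : Finset (Subgroup G) := D.toFinset.erase A with hs
  have hmem : ∀ B, B ∈ s ↔ B ≠ A ∧ B ∈ D := fun B => by simp [hs]
  have hev : Even s.card := by
    rw [Finset.card_eq_sum_card_image (fun B => A ⊔ B) s]
    refine Finset.even_sum _ fun W hW => ?_
    obtain ⟨B, hB, rfl⟩ := Finset.mem_image.1 hW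
    obtain ⟨hBA, hBD⟩ := (hmem B).1 hB
    obtain ⟨K, hK⟩ := S.pair A hA B hBD (Ne.symm hBA)
    set t := D.toFinset.filter (fun C => C ≤ A ⊔ B) with ht
    have hfib : s.filter (fun C => A ⊔ C = A ⊔ B) = t.erase A := by
      ext C
      simp only [ht, Finset.mem_filter, Finset.mem_erase, Set.mem_toFinset, hmem]
      constructor
      · rintro ⟨⟨h1, h2⟩, h3⟩
        exact ⟨h1, h2, h3 ▸ le_sup_right⟩
      · rintro ⟨h1, h2, h3⟩
        exact ⟨⟨h1, h2⟩, S.closed A hA B hBD A hA C h2 (Ne.symm hBA) (Ne.symm h1) le_sup_left h3⟩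
    have hAt : A ∈ t := by simp [ht, hA]
    have hodd : Odd t.card := by
      have h1 : t.card = Nat.card {C : Subgroup G // C ∈ D ∧ C ≤ A ⊔ K} := by
        rw [Nat.card_eq_fintype_card, Fintype.card_subtype]
        exact congrArg Finset.card (by ext C; simp [ht, hK.sup_eq])
      rw [h1, S.card_ker_members hA hK]
      obtain ⟨m, hm⟩ := IsPGroup.iff_card.1 hK.isp
      exact (hm ▸ (S.hq.odd_of_ne_two S.hq2).pow : Odd (Nat.card ↥K)).of_dvd_nat
        (Subgroup.index_dvd_card _)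
    rw [hfib, Finset.card_erase_of_mem hAt]
    obtain ⟨c, hc⟩ := hodd
    exact ⟨c, by omega⟩
  have hDc : Nat.card D = s.card + 1 := by
    rw [hs, Finset.card_erase_add_one (by simp [hA]), Nat.card_eq_fintype_card, Set.toFinset_card]
  rw [hDc]
  exact hev.add_one

/-- No element inverts a member. -/
theorem Sys.no_invert [Finite G] (S : Sys p q D) (htop : sSup D = ⊤) {A : Subgroup G} (hA : A ∈ D)
    {a : G} (ha : a ∈ A) (ha1 : a ≠ 1) (g : G) : g * a * g⁻¹ ≠ a⁻¹ := by
  classical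
  intro hg
  set N := Subgroup.normalizer (A : Set G) with hN
  have : Fact p.Prime := ⟨S.hp⟩
  have : IsCyclic ↥A := isCyclic_of_prime_card (S.card A hA)
  let φ : ↥N →* (ZMod (Nat.card ↥A))ˣ :=
    (IsCyclic.mulAutMulEquiv ↥A).toMonoidHom.comp A.normalizerMonoidHom
  have hφ : ∀ x y : ↥N, φ x = φ y ↔
      ∀ c ∈ A, (x : G) * c * (x : G)⁻¹ = (y : G) * c * (y : G)⁻¹ := by
    intro x y
    change (IsCyclic.mulAutMulEquiv ↥A) _ = (IsCyclic.mulAutMulEquiv ↥A) _ ↔ _
    rw [EmbeddingLike.apply_eq_iff_eq]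
    constructor
    · intro h c hc
      exact congrArg Subtype.val (DFunLike.congr_fun h ⟨c, hc⟩)
    · intro h
      exact MulEquiv.ext fun c => Subtype.ext (h c c.2)
  have key : ∀ (k : G) (y : ↥N) (x : ↥N), (x : G) = k⁻¹ * y * k → φ x = φ y := by
    intro k y x hx
    rw [hφ]
    intro c hc
    by_cases hc1 : c = 1
    · subst hc1; simp
    have hy : cnj (y : G) A = A := mem_normalizer_cnj.1 y.2
    obtain ⟨n, hn⟩ := S.exists_pow hA hc hc1 (y := (y : G) * c * (y : G)⁻¹) (by
      have := conj_mem_cnj (g := (y : G)) hc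
      rwa [hy] at this)
    have hkA : cnj (y : G) (cnj k A) = cnj k A := by
      rw [cnj_cnj, show (y : G) * k = k * x by rw [hx]; group, ← cnj_cnj,
        mem_normalizer_cnj.1 x.2]
    have h2 := S.same_exp hA (S.inv A hA k) hkA hc hc1 hn.symm (conj_mem_cnj (g := k) hc)
    rw [hx, ← hn, show k⁻¹ * (y : G) * k * c * (k⁻¹ * (y : G) * k)⁻¹ =
      k⁻¹ * ((y : G) * (k * c * k⁻¹) * (y : G)⁻¹) * k by group, h2, conj_pow]
    group
  let V : G →* (ZMod (Nat.card ↥A))ˣ := MonoidHom.transfer φ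
  have hV : ∀ y : ↥N, V (y : G) = φ y ^ N.index := by
    intro y
    have := N.fintypeQuotientOfFiniteIndex
    change MonoidHom.transfer φ (y : G) = _
    rw [MonoidHom.transfer_eq_prod_quotient_orbitRel_zpowers_quot,
      index_eq_sum_minimalPeriod N (y : G), ← Finset.prod_pow_eq_pow_sum]
    refine Finset.prod_congr rfl fun o _ => ?_
    rw [← map_pow]
    exact key o.out.out _ _ (by simp)
  have hone : ∀ x : G, V x = 1 := by
    have hle : (⊤ : Subgroup G) ≤ V.ker := by
      rw [← htop, sSup_le_iff]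
      intro B hB b hb
      obtain ⟨k, rfl⟩ := S.transitive hA hB
      rw [mem_cnj] at hb
      have h1 : V (k⁻¹ * b * k) = 1 := by
        have h2 := hV ⟨_, Subgroup.le_normalizer hb⟩
        rw [h2]
        have h3 : φ ⟨_, Subgroup.le_normalizer hb⟩ = φ 1 := by
          rw [hφ]
          intro c hc
          obtain ⟨a0, ha0, ha01⟩ := S.exists_ne_one hA
          obtain ⟨i, rfl⟩ := S.exists_pow hA ha0 ha01 hc
          obtain ⟨j, hj⟩ := S.exists_pow hA ha0 ha01 hb
          simp only [← hj, OneMemClass.coe_one]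
          group
        rw [h3, map_one, one_pow]
      rw [MonoidHom.mem_ker]
      rw [map_mul, map_mul, map_inv, mul_comm, ← mul_assoc, mul_inv_cancel, one_mul] at h1
      exact h1
    exact fun x => hle (Subgroup.mem_top x)
  have hgN : g ∈ N := by
    rw [hN, mem_normalizer_cnj]
    apply Subgroup.eq_of_le_of_card_ge
    · intro x hx
      rw [mem_cnj] at hx
      obtain ⟨i, hi⟩ := S.exists_pow hA ha ha1 hx
      have h2 : x = g * a ^ i * g⁻¹ := by rw [hi]; group
      rw [h2, ← conj_pow, hg]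
      exact A.pow_mem (A.inv_mem ha) i
    · rw [S.card A hA, S.card _ (S.inv A hA g)]
  have h2 : φ ⟨g, hgN⟩ ^ 2 = 1 := by
    rw [← map_pow, ← map_one φ, hφ]
    intro c hc
    obtain ⟨i, rfl⟩ := S.exists_pow hA ha ha1 hc
    simp only [SubmonoidClass.coe_pow, OneMemClass.coe_one, one_mul, inv_one, mul_one]
    rw [← conj_pow, pow_two, show g * g * a * (g * g)⁻¹ = g * (g * a * g⁻¹) * g⁻¹ by group, hg,
      ← conj_inv, hg, inv_inv]
  have hidx : φ ⟨g, hgN⟩ ^ N.index = 1 := by rw [← hV, hone]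
  have hodd : Odd N.index := S.card_eq_index hA ▸ S.card_odd hA
  obtain ⟨c, hc⟩ := hodd
  rw [hc, pow_succ, pow_mul, h2, one_pow, one_mul, ← map_one φ, hφ] at hidx
  have h3 := hidx a ha
  simp only [hg, OneMemClass.coe_one, one_mul, inv_one, mul_one] at h3
  have h4 : a ^ 2 = 1 := by rw [pow_two]; exact inv_eq_iff_mul_eq_one.1 h3
  have h5 := orderOf_dvd_of_pow_eq_one h4
  rw [S.orderOf_mem hA ha ha1] at h5
  exact S.hp2 ((Nat.prime_dvd_prime_iff_eq S.hp Nat.prime_two).1 h5)

end H8.PF
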